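import Mathlib
import Groth.Agent.FlatLocus.Main
import Groth.Agent.FlatLocus.Fibrewise

/-!
# Flat modules which are locally on the base finitely presented
-/

set_option autoImplicit false
set_option linter.unusedSectionVars false
set_option linter.style.haveILetI false

noncomputable section

universe u

open scoped TensorProduct

namespace Groth.Agent.FlatFPLib

variable {R P M : Type u} [CommRing R] [CommRing P] [Algebra R P] [Algebra.FinitePresentation R P]
  [AddCommGroup M] [Module P M] [Module R M] [IsScalarTower R P M] [Module.Flat R M]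

/-- The kernel of a surjection from a free module onto a flat module is finitely generated when it is
so locally on the base and the base embeds in finitely many local rings. -/
theorem fg_ker_of_locally {a : ℕ} (π : (Fin a → P) →ₗ[P] M) (hπ : Function.Surjective π)
    (s : Finset (PrimeSpectrum R))
    (hs : Function.Injective fun r : R => fun p : s => algebraMap R (Localization.AtPrime p.1.asIdeal) r)
    (hK : ∀ p : PrimeSpectrum R, ∃ K₀ : Submodule P (Fin a → P), K₀.FG ∧ K₀ ≤ LinearMap.ker π ∧
      ∀ x ∈ LinearMap.ker π, ∃ t ∉ p.asIdeal, algebraMap R P t • x ∈ K₀) :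
    (LinearMap.ker π).FG := by
  classical
  choose K₀ hfg hle hloc using hK
  let K := LinearMap.ker π
  let base : Submodule P (Fin a → P) := s.sup K₀
  have hbase_fg : base.FG := Submodule.fg_finset_sup _ _ fun p _ => hfg p
  have hbase_le : base ≤ K := Finset.sup_le fun p _ => hle p
  let Kp : PrimeSpectrum R → Submodule P (Fin a → P) := fun p => base ⊔ K₀ p
  have hKp_fg : ∀ p, (Kp p).FG := fun p => hbase_fg.sup (hfg p)
  have hKp_le : ∀ p, Kp p ≤ K := fun p => sup_le hbase_le (hle p)
  haveI : ∀ p, Module.FinitePresentation P ((Fin a → P) ⧸ Kp p) := fun p =>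
    Module.finitePresentation_of_free_of_surjective (Kp p).mkQ (Kp p).mkQ_surjective
      (by rw [Submodule.ker_mkQ]; exact hKp_fg p)
  let U : PrimeSpectrum R → Set (PrimeSpectrum P) := fun p =>
    {q | Module.Flat R (LocalizedModule q.asIdeal.primeCompl ((Fin a → P) ⧸ Kp p))}
  have hcover : ∀ q : PrimeSpectrum P, q ∈ U (PrimeSpectrum.comap (algebraMap R P) q) := fun q => by
    let p := PrimeSpectrum.comap (algebraMap R P) q
    let F₁ : ((Fin a → P) ⧸ Kp p) →ₗ[P] M := (Kp p).liftQ π (hKp_le p)
    let g := LocalizedModule.mkLinearMap q.asIdeal.primeCompl M ∘ₗ F₁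
    haveI : IsLocalizedModule q.asIdeal.primeCompl g := by
      refine ⟨IsLocalizedModule.map_units (LocalizedModule.mkLinearMap q.asIdeal.primeCompl M), fun y => ?_, fun {z z'} h => ?_⟩
      · obtain ⟨⟨m, t⟩, hm⟩ := IsLocalizedModule.surj q.asIdeal.primeCompl (LocalizedModule.mkLinearMap q.asIdeal.primeCompl M) y
        obtain ⟨v, rfl⟩ := hπ m
        exact ⟨⟨(Kp p).mkQ v, t⟩, hm⟩
      · obtain ⟨x, rfl⟩ := (Kp p).mkQ_surjective z
        obtain ⟨x', rfl⟩ := (Kp p).mkQ_surjective z'
        obtain ⟨c, hc⟩ := IsLocalizedModule.exists_of_eq (S := q.asIdeal.primeCompl)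
          (f := LocalizedModule.mkLinearMap q.asIdeal.primeCompl M) (show LocalizedModule.mkLinearMap _ M (π x) = LocalizedModule.mkLinearMap _ M (π x') from h)
        have hker : (c : P) • (x - x') ∈ K := by
          show π _ = 0
          rw [map_smul, map_sub, smul_sub, sub_eq_zero]
          exact hc
        obtain ⟨t, ht, htx⟩ := hloc p _ hker
        have htq : algebraMap R P t ∉ q.asIdeal := ht
        have hcq : (c : P) ∉ q.asIdeal := c.2
        refine ⟨(⟨algebraMap R P t, htq⟩ : q.asIdeal.primeCompl) * ⟨(c : P), hcq⟩, ?_⟩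
        simp only [Submonoid.smul_def, Submonoid.coe_mul]
        rw [← sub_eq_zero, ← smul_sub, ← map_sub, ← map_smul, Submodule.mkQ_apply,
          Submodule.Quotient.mk_eq_zero, mul_smul]
        exact Submodule.mem_sup_right htx
    haveI : Module.Flat R (LocalizedModule q.asIdeal.primeCompl M) := by
      rw [Module.Flat.iff_lTensor_injective']
      exact fun I => FlatLocus.lTensor_injective_localized (A := R) q.asIdeal.primeCompl
        (LocalizedModule.mkLinearMap q.asIdeal.primeCompl M) I.subtype
        (Module.Flat.lTensor_preserves_injective_linearMap _ I.subtype_injective)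
    exact Module.Flat.of_linearEquiv ((IsLocalizedModule.iso q.asIdeal.primeCompl g).restrictScalars R)
  have hUeq : ∀ p, ∀ q ∈ U p, ∀ x ∈ K, ∃ h ∉ q.asIdeal, h • x ∈ Kp p := fun p q hq x hx => by
    let N := LocalizedModule q.asIdeal.primeCompl ((Fin a → P) ⧸ Kp p)
    haveI : Module.Flat R N := hq
    let xb : N := LocalizedModule.mkLinearMap q.asIdeal.primeCompl _ ((Kp p).mkQ x)
    have hxb : xb = 0 := by
      let Pr := (j : s) → Localization.AtPrime j.1.asIdeal
      let ι : R →ₗ[R] Pr := LinearMap.pi fun j => Algebra.linearMap R (Localization.AtPrime j.1.asIdeal)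
      have hinj : Function.Injective (ι.lTensor N) :=
        Module.Flat.lTensor_preserves_injective_linearMap ι hs
      have h0 : TensorProduct.piRight R R N (fun j : s => Localization.AtPrime j.1.asIdeal) (ι.lTensor N (xb ⊗ₜ 1)) = 0 := by
        funext j
        obtain ⟨t, ht, htx⟩ := hloc j.1 x hx
        have htxb : t • xb = 0 := by
          rw [← algebraMap_smul P t xb, ← map_smul, ← map_smul, Submodule.mkQ_apply,
            (Submodule.Quotient.mk_eq_zero _).2 (Submodule.mem_sup_left (Finset.le_sup (f := K₀) j.2 htx)), map_zero]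
        rw [LinearMap.lTensor_tmul, TensorProduct.piRight_apply, Pi.zero_apply]
        show xb ⊗ₜ[R] (ι 1 j) = 0
        obtain ⟨v, hv⟩ := IsLocalization.map_units (Localization.AtPrime j.1.asIdeal) (⟨t, ht⟩ : j.1.asIdeal.primeCompl)
        have h1 : ι 1 j = t • ((v⁻¹ : (Localization.AtPrime j.1.asIdeal)ˣ) : Localization.AtPrime j.1.asIdeal) := by
          show algebraMap R _ 1 = _
          rw [map_one, Algebra.smul_def]
          exact (Units.mul_inv v).symm.trans (by rw [hv])
        rw [h1, ← TensorProduct.smul_tmul, htxb, TensorProduct.zero_tmul]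
      rw [LinearEquiv.map_eq_zero_iff, map_eq_zero_iff _ hinj] at h0
      simpa using congrArg (TensorProduct.rid R N) h0
    obtain ⟨c, hc⟩ := (IsLocalizedModule.eq_zero_iff q.asIdeal.primeCompl
      (LocalizedModule.mkLinearMap q.asIdeal.primeCompl _)).1 hxb
    refine ⟨c, c.2, (Submodule.Quotient.mk_eq_zero _).1 ?_⟩
    rw [Submodule.Quotient.mk_smul]
    exact hc
  obtain ⟨t, ht⟩ := isCompact_univ.elim_finite_subcover (fun p => U p)
    (fun p => FlatLocus.isOpen_flat_locus (R := R) (S := P) (M := (Fin a → P) ⧸ Kp p))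
    fun q _ => Set.mem_iUnion.2 ⟨_, hcover q⟩
  suffices h : K = t.sup Kp by
    show K.FG
    rw [h]
    exact Submodule.fg_finset_sup _ _ fun p _ => hKp_fg p
  refine le_antisymm (fun x hx => ?_) (Finset.sup_le fun p _ => hKp_le p)
  let I : Ideal P := (t.sup Kp).colon {x}
  have hI : I = ⊤ := by
    by_contra hne
    obtain ⟨mx, hmx, hIm⟩ := Ideal.exists_le_maximal I hne
    obtain ⟨p, hp⟩ := Set.mem_iUnion.1 (ht (Set.mem_univ (⟨mx, hmx.isPrime⟩ : PrimeSpectrum P)))
    obtain ⟨hpt, hq⟩ := Set.mem_iUnion.1 hp
    obtain ⟨h, hh, hhx⟩ := hUeq p _ hq x hx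
    exact hh (hIm (Submodule.mem_colon_singleton.2 (Finset.le_sup (f := Kp) hpt hhx)))
  have h1 : (1 : P) ∈ I := hI ▸ Submodule.mem_top
  simpa using Submodule.mem_colon_singleton.1 h1

/-- Flat finite modules which are locally on the base finitely presented are finitely presented. -/
theorem finitePresentation_of_locally [Module.Finite P M] (s : Finset (PrimeSpectrum R))
    (hs : Function.Injective fun r : R => fun p : s => algebraMap R (Localization.AtPrime p.1.asIdeal) r)
    (hloc : ∀ (p : Ideal R) [p.IsPrime],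
      Module.FinitePresentation (Localization (Algebra.algebraMapSubmonoid P p.primeCompl))
        (LocalizedModule (Algebra.algebraMapSubmonoid P p.primeCompl) M)) :
    Module.FinitePresentation P M := by
  classical
  obtain ⟨a, π, hπ⟩ := Module.Finite.exists_fin' P M
  refine Module.finitePresentation_of_surjective π hπ (fg_ker_of_locally π hπ s hs fun p => ?_)
  let T := Algebra.algebraMapSubmonoid P p.asIdeal.primeCompl
  let gF := LocalizedModule.mkLinearMap T (Fin a → P)
  let gM := LocalizedModule.mkLinearMap T M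
  haveI := hloc p.asIdeal
  let πT : LocalizedModule T (Fin a → P) →ₗ[Localization T] LocalizedModule T M := LocalizedModule.map T π
  haveI : Module.Finite (Localization T) (LocalizedModule T (Fin a → P)) := Module.Finite.of_isLocalizedModule T gF
  have hπT : Function.Surjective πT := LocalizedModule.map_surjective T π hπ
  obtain ⟨G, hG⟩ := Module.FinitePresentation.fg_ker πT hπT
  have hnum : ∀ w : G, ∃ (v : Fin a → P) (c : T), π v = 0 ∧ gF v = (c : P) • w.1 := fun w => by
    obtain ⟨⟨v, t⟩, hv⟩ := IsLocalizedModule.surj T gF w.1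
    have h0 : gM (π v) = gM 0 := by
      rw [map_zero, ← IsLocalizedModule.map_apply T gF gM π v]
      show πT (gF v) = 0
      rw [← hv, Submonoid.smul_def, LinearMap.map_smul_of_tower,
        LinearMap.mem_ker.1 (hG ▸ Submodule.subset_span w.2 : w.1 ∈ LinearMap.ker πT), smul_zero]
    obtain ⟨c, hc⟩ := IsLocalizedModule.exists_of_eq (S := T) (f := gM) h0
    refine ⟨(c : P) • v, c * t, by rw [map_smul]; simpa [Submonoid.smul_def] using hc, ?_⟩
    rw [map_smul, Submonoid.coe_mul, mul_smul, ← show (t : P) • w.1 = gF v from hv]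
  choose v c hv hvw using hnum
  refine ⟨Submodule.span P (Set.range v), Submodule.fg_span (Set.finite_range v),
    Submodule.span_le.2 (by rintro _ ⟨w, rfl⟩; exact hv w), fun x hx => ?_⟩
  have hxT : gF x ∈ Submodule.span (Localization T) (Set.range fun w => gF (v w)) := by
    have h1 : gF x ∈ LinearMap.ker πT := by
      rw [LinearMap.mem_ker]
      show LocalizedModule.map T π (gF x) = 0
      rw [show LocalizedModule.map T π (gF x) = gM (π x) from IsLocalizedModule.map_apply T gF gM π x,
        LinearMap.mem_ker.1 hx, map_zero]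
    rw [← hG] at h1
    refine (Submodule.span_le.2 ?_) h1
    intro w hw
    obtain ⟨u, hu⟩ := IsLocalization.map_units (Localization T) (c ⟨w, hw⟩)
    have : w = ((u⁻¹ : (Localization T)ˣ) : Localization T) • gF (v ⟨w, hw⟩) := by
      rw [hvw ⟨w, hw⟩, ← algebraMap_smul (Localization T) ((c ⟨w, hw⟩ : P)), ← hu, smul_smul, Units.inv_mul, one_smul]
    rw [SetLike.mem_coe, this]
    exact Submodule.smul_mem _ _ (Submodule.subset_span ⟨⟨w, hw⟩, rfl⟩)
  have h2 : gF x ∈ (Submodule.span P (Set.range v)).localized' (Localization T) T gF := by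
    rw [Submodule.localized'_eq_span]
    refine (Submodule.span_mono ?_) hxT
    rintro _ ⟨w, rfl⟩
    exact ⟨v w, Submodule.subset_span ⟨w, rfl⟩, rfl⟩
  obtain ⟨y, hy, t, hyt⟩ := (Submodule.mem_localized' _ _ _ _ _).1 h2
  rw [IsLocalizedModule.mk'_eq_iff, ← LinearMap.map_smul_of_tower gF] at hyt
  obtain ⟨c', hc'⟩ := IsLocalizedModule.exists_of_eq (S := T) (f := gF) hyt
  obtain ⟨_, ⟨r, hr, hrt⟩⟩ : ∃ r' : P, ∃ r ∈ p.asIdeal.primeCompl, algebraMap R P r = (c' * t : T) := ⟨0, (c' * t : T).2⟩
  refine ⟨r, hr, ?_⟩
  rw [hrt, Submonoid.coe_mul, mul_smul]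
  have : (c' : P) • y = (c' : P) • (t : P) • x := hc'
  rw [← this]
  exact Submodule.smul_mem _ _ hy

end Groth.Agent.FlatFPLib
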