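import Mathlib
import Groth.Agent.FlatFPLib.Basic

/-!
# Flat algebras of finite type which are locally on the base finitely presented
-/

set_option autoImplicit false
set_option linter.unusedSectionVars false
set_option linter.style.haveILetI false

noncomputable section

universe u

namespace Groth.Agent.FlatFPLib

open MvPolynomial

theorem finitePresentation_algebra_of_locally {R S : Type u} [CommRing R] [CommRing S]
    [Algebra R S] [Algebra.FiniteType R S] [Module.Flat R S] (s : Finset (PrimeSpectrum R))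
    (hs : Function.Injective fun r : R => fun p : s => algebraMap R (Localization.AtPrime p.1.asIdeal) r)
    (hloc : ∀ (p : Ideal R) [p.IsPrime],
      Algebra.FinitePresentation (Localization.AtPrime p) (Localization (Algebra.algebraMapSubmonoid S p.primeCompl))) :
    Algebra.FinitePresentation R S := by
  classical
  obtain ⟨n, π, hπ⟩ := Algebra.FiniteType.iff_quotient_mvPolynomial''.1 (inferInstance : Algebra.FiniteType R S)
  let P := MvPolynomial (Fin n) R
  letI : Algebra P S := π.toRingHom.toAlgebra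
  haveI : IsScalarTower R P S := .of_algebraMap_eq fun r => (π.commutes r).symm
  let π₁ : (Fin 1 → P) →ₗ[P] S := (Algebra.linearMap P S) ∘ₗ LinearMap.proj 0
  have hπ₁ : Function.Surjective π₁ := fun z => by
    obtain ⟨w, hw⟩ := hπ z
    exact ⟨fun _ => w, hw⟩
  refine Algebra.FinitePresentation.of_surjective (f := π) hπ ?_
  have hker : (LinearMap.ker π₁).FG := by
    refine fg_ker_of_locally (R := R) π₁ hπ₁ s hs fun p => ?_
    haveI := hloc p.asIdeal
    let Rp := Localization.AtPrime p.asIdeal
    let T := Algebra.algebraMapSubmonoid S p.asIdeal.primeCompl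
    let Sp := Localization T
    let Pp := MvPolynomial (Fin n) Rp
    let up : P →+* Pp := MvPolynomial.map (algebraMap R Rp)
    let πp : Pp →ₐ[Rp] Sp := MvPolynomial.aeval fun i => algebraMap S Sp (π (X i))
    have hcomm : ∀ w : P, πp (up w) = algebraMap S Sp (π w) := fun w => by
      refine RingHom.congr_fun (?_ : πp.toRingHom.comp up = (algebraMap S Sp).comp π.toRingHom) w
      refine MvPolynomial.ringHom_ext (fun r => ?_) fun i => ?_
      · show πp (up (C r)) = algebraMap S Sp (π (C r))
        rw [show up (C r) = C (algebraMap R Rp r) from MvPolynomial.map_C _ _, show πp (C (algebraMap R Rp r)) = algebraMap Rp Sp (algebraMap R Rp r) from aeval_C _ _]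
        rw [← IsScalarTower.algebraMap_apply R Rp Sp, show (C r : P) = algebraMap R P r from rfl, π.commutes,
          ← IsScalarTower.algebraMap_apply R S Sp]
      · show πp (up (X i)) = algebraMap S Sp (π (X i))
        rw [show up (X i) = X i from MvPolynomial.map_X _ _, show πp (X i) = algebraMap S Sp (π (X i)) from aeval_X _ _]
    letI : Algebra P Pp := up.toAlgebra
    haveI : IsLocalization (p.asIdeal.primeCompl.map (C : R →+* P)) Pp := MvPolynomial.isLocalization p.asIdeal.primeCompl Rp
    have hsurj : Function.Surjective πp := fun z => by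
      obtain ⟨y, ⟨_, r, hr, rfl⟩, rfl⟩ := IsLocalization.exists_mk'_eq T z
      obtain ⟨w, rfl⟩ := hπ y
      obtain ⟨v, hv⟩ := IsLocalization.map_units Rp (⟨r, hr⟩ : p.asIdeal.primeCompl)
      refine ⟨C ((v⁻¹ : Rpˣ) : Rp) * up w, ?_⟩
      rw [eq_comm, IsLocalization.mk'_eq_iff_eq_mul]
      show algebraMap S Sp (π w) = πp (C ((v⁻¹ : Rpˣ) : Rp) * up w) * algebraMap S Sp (algebraMap R S r)
      rw [map_mul, hcomm, show πp (C ((v⁻¹ : Rpˣ) : Rp)) = algebraMap Rp Sp ((v⁻¹ : Rpˣ) : Rp) from aeval_C _ _,
        ← IsScalarTower.algebraMap_apply R S Sp, IsScalarTower.algebraMap_apply R Rp Sp,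
        show algebraMap R Rp r = (v : Rp) from hv.symm, mul_right_comm, ← map_mul, Units.inv_mul, map_one, one_mul]
    obtain ⟨G, hG⟩ := Algebra.FinitePresentation.ker_fG_of_surjective πp hsurj
    have hnum : ∀ g : G, ∃ w : P, π w = 0 ∧ ∃ t : P, t ∈ p.asIdeal.primeCompl.map (C : R →+* P) ∧ up w = up t * g.1 := fun g => by
      obtain ⟨⟨w, t⟩, hwt⟩ := IsLocalization.surj (p.asIdeal.primeCompl.map (C : R →+* P)) g.1
      have h0 : algebraMap S Sp (π w) = 0 := by
        rw [← hcomm, show up w = g.1 * up t.1 from hwt.symm, map_mul,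
          show πp g.1 = 0 from RingHom.mem_ker.1 (hG ▸ Submodule.subset_span g.2 : g.1 ∈ RingHom.ker πp.toRingHom), zero_mul]
      obtain ⟨⟨_, r, hr, rfl⟩, hr0⟩ := (IsLocalization.map_eq_zero_iff T Sp _).1 h0
      refine ⟨C r * w, ?_, C r * t.1, mul_mem (Submonoid.mem_map_of_mem _ hr) t.2, ?_⟩
      · rw [map_mul, show (C r : P) = algebraMap R P r from rfl, π.commutes]; exact hr0
      · rw [map_mul, map_mul, show up w = g.1 * up t.1 from hwt.symm]; ring
    choose w hw t ht hwt using hnum
    let K₀ : Submodule P (Fin 1 → P) := Submodule.span P (Set.range fun g (_ : Fin 1) => w g)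
    refine ⟨K₀, Submodule.fg_span (Set.finite_range _), Submodule.span_le.2 (by rintro _ ⟨g, rfl⟩; exact hw g), fun x hx => ?_⟩
    have hxI : up (x 0) ∈ (Ideal.span (Set.range w)).map up := by
      have h1 : up (x 0) ∈ RingHom.ker πp.toRingHom := by
        rw [RingHom.mem_ker]
        show πp (up (x 0)) = 0
        rw [hcomm, show π (x 0) = 0 from hx, map_zero]
      rw [← hG] at h1
      refine (Submodule.span_le.2 ?_) h1
      intro g hg
      obtain ⟨v, hv⟩ := IsLocalization.map_units Pp (⟨t ⟨g, hg⟩, ht ⟨g, hg⟩⟩ : p.asIdeal.primeCompl.map (C : R →+* P))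
      have : g = ((v⁻¹ : Ppˣ) : Pp) * up (w ⟨g, hg⟩) := by
        rw [hwt ⟨g, hg⟩, show up (t ⟨g, hg⟩) = (v : Pp) from hv.symm, ← mul_assoc, Units.inv_mul, one_mul]
      rw [SetLike.mem_coe, this]
      exact Ideal.mul_mem_left _ _ (Ideal.mem_map_of_mem _ (Ideal.subset_span ⟨⟨g, hg⟩, rfl⟩))
    obtain ⟨⟨⟨y, hy⟩, u⟩, hyu⟩ :=
      (IsLocalization.mem_map_algebraMap_iff (p.asIdeal.primeCompl.map (C : R →+* P)) Pp).1 hxI
    obtain ⟨⟨_, r, hr, rfl⟩, hc⟩ := IsLocalization.exists_of_eq (M := p.asIdeal.primeCompl.map (C : R →+* P)) (S := Pp)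
      (show algebraMap P Pp (x 0 * (u : P)) = algebraMap P Pp y by rw [map_mul]; exact hyu)
    obtain ⟨r', hr', hru⟩ := u.2
    refine ⟨r * r', mul_mem (s := p.asIdeal.primeCompl) hr hr', ?_⟩
    have hmem : ∀ z ∈ Ideal.span (Set.range w), (fun _ : Fin 1 => z) ∈ K₀ := fun z hz => by
      induction hz using Submodule.span_induction with
      | mem z hz => obtain ⟨g, rfl⟩ := hz; exact Submodule.subset_span ⟨g, rfl⟩
      | zero => exact zero_mem _
      | add z z' _ _ h h' => exact add_mem h h'
      | smul c z _ h => exact Submodule.smul_mem _ c h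
    convert hmem (C r * y) (Ideal.mul_mem_left _ _ hy) using 1
    funext i
    obtain rfl : i = 0 := Subsingleton.elim _ _
    show algebraMap R P (r * r') * x 0 = C r * y
    rw [← show (C r : P) * (x 0 * (u : P)) = C r * y from hc, map_mul, ← hru]
    show (C r : P) * C r' * x 0 = C r * (x 0 * C r')
    ring
  obtain ⟨G, hG⟩ := hker
  refine ⟨G.image fun v => v 0, ?_⟩
  refine le_antisymm (Submodule.span_le.2 ?_) fun z hz => ?_
  · intro v hv
    obtain ⟨g, hg, rfl⟩ := Finset.mem_image.1 (Finset.mem_coe.1 hv)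
    show π (g 0) = 0
    exact (hG ▸ Submodule.subset_span hg : g ∈ LinearMap.ker π₁)
  · have h1 : (fun _ : Fin 1 => z) ∈ LinearMap.ker π₁ := hz
    rw [← hG] at h1
    have h2 := Submodule.mem_map_of_mem (f := (LinearMap.proj 0 : (Fin 1 → P) →ₗ[P] P)) h1
    rw [Submodule.map_span, LinearMap.proj_apply] at h2
    rw [Finset.coe_image]
    exact h2

end Groth.Agent.FlatFPLib
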